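import Cfsg.Agent.Lib.Helper63.MC.Defs

set_option autoImplicit false

/-! # S3806, package [COVER]

A finite `p`-group is not the union of at most `p` proper subgroups. -/

namespace Cfsg.Agent.Lib.Helper7.MC

open Cfsg.Agent.Lib.Helper63.MC

universe u

theorem pkgCover : PkgCover.{u} := by
  intro T _ _ p hp hT F hF hne
  classical
  by_contra hcon
  have hcov : ∀ t : T, ∃ H ∈ F, t ∈ H := by
    intro t
    by_contra h
    apply hcon
    refine ⟨t, fun H hH htH => h ⟨H, hH, htH⟩⟩
  haveI : Fintype T := Fintype.ofFinite T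
  obtain ⟨n, hn⟩ := IsPGroup.iff_card.mp hT
  have hn0 : n ≠ 0 := by
    rintro rfl
    rw [pow_zero] at hn
    obtain ⟨H, hH, -⟩ := hcov 1
    apply hne H hH
    haveI : Subsingleton T := (Nat.card_eq_one_iff_unique.mp hn).1
    rw [eq_top_iff]
    intro x _
    rw [Subsingleton.elim x 1]
    exact H.one_mem
  have hcardH : ∀ H ∈ F, Nat.card H ≤ p ^ (n - 1) := by
    intro H hH
    have hdvd : Nat.card H ∣ p ^ n := hn ▸ Subgroup.card_subgroup_dvd_card H
    obtain ⟨m, hm, hmeq⟩ := (Nat.dvd_prime_pow hp.out).mp hdvd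
    have hmn : m ≠ n := by
      rintro rfl
      apply hne H hH
      exact Subgroup.eq_top_of_card_eq H (hmeq.trans hn.symm)
    rw [hmeq]
    exact Nat.pow_le_pow_right hp.out.pos (by omega)
  have h1 : (Finset.univ.erase (1 : T)).card ≤
      ∑ H ∈ F, ((Finset.univ.filter (fun x : T => x ∈ H)).erase (1 : T)).card := by
    refine (Finset.card_le_card ?_).trans Finset.card_biUnion_le
    intro t ht
    rw [Finset.mem_erase] at ht
    obtain ⟨H, hH, htH⟩ := hcov t
    exact Finset.mem_biUnion.mpr ⟨H, hH, Finset.mem_erase.mpr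
      ⟨ht.1, Finset.mem_filter.mpr ⟨Finset.mem_univ _, htH⟩⟩⟩
  have h2 : ∀ H ∈ F, ((Finset.univ.filter (fun x : T => x ∈ H)).erase (1 : T)).card
      ≤ p ^ (n - 1) - 1 := by
    intro H hH
    rw [Finset.card_erase_of_mem (Finset.mem_filter.mpr ⟨Finset.mem_univ _, H.one_mem⟩)]
    have e : (Finset.univ.filter (fun x : T => x ∈ H)).card = Nat.card H := by
      rw [Nat.card_eq_fintype_card, Fintype.card_subtype]
    rw [e]
    exact Nat.sub_le_sub_right (hcardH H hH) 1
  have h3 : (Finset.univ.erase (1 : T)).card = p ^ n - 1 := by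
    rw [Finset.card_erase_of_mem (Finset.mem_univ _), Finset.card_univ,
      ← Nat.card_eq_fintype_card, hn]
  have h4 : ∑ H ∈ F, ((Finset.univ.filter (fun x : T => x ∈ H)).erase (1 : T)).card
      ≤ F.card * (p ^ (n - 1) - 1) := by
    have h := Finset.sum_le_card_nsmul F _ (p ^ (n - 1) - 1) h2
    rw [smul_eq_mul] at h
    exact h
  have h5 : F.card * (p ^ (n - 1) - 1) ≤ p * (p ^ (n - 1) - 1) := Nat.mul_le_mul_right _ hF
  have h6 : p * (p ^ (n - 1) - 1) = p ^ n - p := by
    obtain ⟨m, rfl⟩ := Nat.exists_eq_succ_of_ne_zero hn0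
    rw [Nat.succ_sub_one, Nat.mul_sub, mul_one, pow_succ, mul_comm]
  have hp2 := hp.out.two_le
  have h7 : p ≤ p ^ n := Nat.le_self_pow hn0 p
  omega

end Cfsg.Agent.Lib.Helper7.MC
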