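import Cfsg.Agent.Lib.Helper63.MC.Defs
import Cfsg.Agent.Lib.Helper73.MaxClass

set_option autoImplicit false

/-! # S3806, package [GEN]

In a `p`-group of maximal class of order `p ^ (2k+1)` with `k + 2 ≤ p`, the elements outside
the first `k` two-step centralizers generate the group. -/

namespace Cfsg.Agent.Lib.Helper7.MC

open Cfsg.Agent.Lib.Helper63.MC
open scoped commutatorElement

universe u

theorem pkgGen_of (h : PkgCover.{u}) : PkgGen.{u} := by
  intro T _ _ p hp k hk hkp hcard hclass
  classical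
  have hP : IsPGroup p T := IsPGroup.of_card hcard
  haveI hnil : Group.IsNilpotent T := hP.isNilpotent
  have hK : ∀ i, 1 ≤ i → i ≤ k → K T i ≠ ⊤ := by
    intro i hi1 hik htop
    have hlt := Cfsg.Agent.Lib.Helper73.lowerCentralSeries_succ_lt (X := T) (i := i + 1)
      (by rw [hclass]; omega)
    have hle : L T (i + 1) ≤ L T (i + 1 + 1) := by
      show ⁅L T i, (⊤ : Subgroup T)⁆ ≤ _
      rw [Subgroup.commutator_le]
      intro a ha g _
      have hg : g ∈ K T i := by rw [htop]; exact Subgroup.mem_top g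
      have h1 := (mem_K.mp hg) a⁻¹ (Subgroup.inv_mem _ ha)
      have e : ⁅a, g⁆ = a⁻¹⁻¹ * (g * a⁻¹ * g⁻¹) := by rw [commutatorElement_def]; group
      rw [e]
      exact h1
    exact absurd hle (not_le_of_gt hlt)
  by_contra hcl
  obtain ⟨X, hX⟩ : ∃ X : Set T, X = {x : T | ∀ i, 1 ≤ i → i ≤ k → x ∉ K T i} := ⟨_, rfl⟩
  rw [← hX] at hcl
  have hFcard : (insert (Subgroup.closure X) ((Finset.Icc 1 k).image (K T))).card ≤ p := by
    have h1 : (insert (Subgroup.closure X) ((Finset.Icc 1 k).image (K T))).card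
        ≤ ((Finset.Icc 1 k).image (K T)).card + 1 := Finset.card_insert_le _ _
    have h2 : ((Finset.Icc 1 k).image (K T)).card ≤ (Finset.Icc 1 k).card :=
      Finset.card_image_le
    have h3 : (Finset.Icc 1 k).card = k := by simp
    omega
  have hFne : ∀ H ∈ insert (Subgroup.closure X) ((Finset.Icc 1 k).image (K T)), H ≠ ⊤ := by
    intro H hH
    rcases Finset.mem_insert.mp hH with rfl | hH
    · exact hcl
    · obtain ⟨i, hi, rfl⟩ := Finset.mem_image.mp hH
      rw [Finset.mem_Icc] at hi
      exact hK i hi.1 hi.2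
  obtain ⟨t, ht⟩ := h T p hP _ hFcard hFne
  have htX : t ∈ X := by
    rw [hX]
    intro i hi1 hik
    exact ht (K T i) (Finset.mem_insert_of_mem
      (Finset.mem_image.mpr ⟨i, Finset.mem_Icc.mpr ⟨hi1, hik⟩, rfl⟩))
  exact ht (Subgroup.closure X) (Finset.mem_insert_self _ _) (Subgroup.subset_closure htX)

end Cfsg.Agent.Lib.Helper7.MC
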